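import Mathlib
import Cfsg.Agent.H915.Gs.Base
import Cfsg.Agent.ClassicalGeometry.SympAutSemi
import Cfsg.Agent.ClassicalGeometry.SympSiegel
import Cfsg.Agent.S0749
import Cfsg.Agent.S0765

/-!
# S4327, symplectic groups: base (helper914)

`V = Fin m ⊕ Fin m → F`, `G = Sp_2m(F)`, `f = sympForm m F`.

* `T S` : the group generated by the transvections with centre in `S`;
* `cj_T`, `im_T`, `T_univ`, `T_smul`;
* `witt` : Witt's theorem for families of vectors;
* `W j` : the span of the first `j` hyperbolic planes of the standard basis `e i = Pi.single (inr i) 1`,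
  `e' i = Pi.single (inl i) 1`, `f (e i) (e' i) = 1`;
* `Reach.rootN`, `Reach.rootP` : one more conjugate adds a root group.
-/

set_option autoImplicit false
set_option maxHeartbeats 400000

namespace Cfsg.Agent.H914.Gs

open Cfsg Cfsg.Agent.H915.Gs
open Cfsg.Agent.ClassicalGeometry.SympBasic Cfsg.Agent.ClassicalGeometry.SympSiegel
  Cfsg.Agent.ClassicalGeometry.SympAutSemi

variable {F : Type*} [Field F] {m : ℕ}

local notation "V" => (Fin m ⊕ Fin m → F)
local notation "G" => Matrix.symplecticGroup (Fin m) F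
local notation "f" => sympForm m F

/-- the group generated by the transvections with centre in `S` -/
def T (S : Set (Fin m ⊕ Fin m → F)) : Subgroup (Matrix.symplecticGroup (Fin m) F) :=
  Subgroup.closure {x | ∃ v ∈ S, ∃ c : F, x = transv v c}

theorem transv_mem_T {S : Set V} {v : V} (hv : v ∈ S) (c : F) : transv v c ∈ T S :=
  Subgroup.subset_closure ⟨v, hv, c, rfl⟩

theorem T_le {S : Set V} {J : Subgroup G} : T S ≤ J ↔ ∀ v ∈ S, ∀ c : F, transv v c ∈ J := by
  constructor
  · intro h v hv c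
    exact h (transv_mem_T hv c)
  · intro h
    unfold T
    rw [Subgroup.closure_le]
    rintro _ ⟨v, hv, c, rfl⟩
    exact h v hv c

theorem T_mono {S S' : Set V} (h : S ⊆ S') : T S ≤ T S' := T_le.2 fun _ hv c => transv_mem_T (h hv) c

theorem transv_smul_mem {J : Subgroup G} {v : V} (h : ∀ c : F, transv v c ∈ J) (a c : F) :
    transv (a • v) c ∈ J := by
  rw [transv_smul_vec]
  exact h _

theorem transv_mem_of_smul {J : Subgroup G} {v : V} {a : F} (ha : a ≠ 0) (h : ∀ c : F, transv (a • v) c ∈ J)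
    (c : F) : transv v c ∈ J := by
  have := transv_smul_mem h a⁻¹ c
  rwa [smul_smul, inv_mul_cancel₀ ha, one_smul] at this

theorem cj_T (h : G) (S : Set V) : cj h (T S) = T ((fun v => h • v) '' S) := by
  unfold T
  rw [cj, MonoidHom.map_closure]
  congr 1
  ext x
  constructor
  · rintro ⟨_, ⟨v, hv, c, rfl⟩, rfl⟩
    exact ⟨h • v, ⟨v, hv, rfl⟩, c, conj_transv h v c⟩
  · rintro ⟨_, ⟨v, hv, rfl⟩, c, rfl⟩
    exact ⟨_, ⟨v, hv, c, rfl⟩, conj_transv h v c⟩

theorem im_T {g : semiSim m F} {φ : F ≃+* F} {l : F} (hl : l ≠ 0) (hg : IsSemi g.1 φ l) (S : Set V) :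
    im (conjHom m F g) (T S) = T (g.1 '' S) := by
  unfold T
  rw [im, MonoidHom.map_closure]
  congr 1
  ext x
  constructor
  · rintro ⟨_, ⟨v, hv, c, rfl⟩, rfl⟩
    exact ⟨g.1 v, ⟨v, hv, rfl⟩, _, conjHom_transv g hl hg v c⟩
  · rintro ⟨_, ⟨v, hv, rfl⟩, c, rfl⟩
    refine ⟨_, ⟨v, hv, φ.symm (c * l), rfl⟩, ?_⟩
    change conjHom m F g (transv v (φ.symm (c * l))) = _
    rw [conjHom_transv g hl hg, RingEquiv.apply_symm_apply, mul_assoc, mul_inv_cancel₀ hl, mul_one]

theorem T_univ : T (Set.univ : Set V) = ⊤ := by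
  have h : transvGroup m F = ⊤ := Cfsg.Agent.S0765.result m
  rw [eq_top_iff, ← h]
  unfold transvGroup
  rw [Subgroup.closure_le]
  rintro A ⟨v, c, hA⟩
  have h1 : A = transv v c := Subtype.ext hA
  rw [h1]
  exact transv_mem_T (Set.mem_univ v) c

/-! ### Witt's theorem -/

theorem witt {ι : Type*} (x y : ι → V) (hx : LinearIndependent F x) (hy : LinearIndependent F y)
    (hxy : ∀ i j, f (x i) (x j) = f (y i) (y j)) : ∃ h : G, ∀ i, h • x i = y i := by
  let bx := Module.Basis.span hx
  let byy := Module.Basis.span hy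
  let φ := bx.equiv byy (Equiv.refl ι)
  have hφ : ∀ i, φ (bx i) = byy i := fun i => bx.equiv_apply i byy (Equiv.refl ι)
  have hbx : ∀ i, (bx i : V) = x i := fun i => congrArg Subtype.val (Module.Basis.span_apply hx i)
  have hby : ∀ i, (byy i : V) = y i := fun i => congrArg Subtype.val (Module.Basis.span_apply hy i)
  obtain ⟨g, hg, hg'⟩ := Cfsg.Agent.S0749.result (sympBilin m F) sympBilin_nondegenerate sympBilin_isAlt
    (Submodule.span F (Set.range x)) (Submodule.span F (Set.range y)) φ (by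
      have key : (LinearMap.BilinForm.restrict (sympBilin m F) (Submodule.span F (Set.range y))).compl₁₂
          (φ : _ →ₗ[F] _) (φ : _ →ₗ[F] _) =
          LinearMap.BilinForm.restrict (sympBilin m F) (Submodule.span F (Set.range x)) := by
        refine LinearMap.BilinForm.ext_basis bx fun i j => ?_
        change sympForm m F (φ (bx i) : V) (φ (bx j) : V) = sympForm m F (bx i : V) (bx j : V)
        rw [hφ, hφ, hbx, hbx, hby, hby, hxy]
      intro u v
      exact LinearMap.congr_fun (LinearMap.congr_fun key u) v)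
  refine ⟨ofIso (g : V →ₗ[F] V) hg, fun i => ?_⟩
  refine (ofIso_smul (g : V →ₗ[F] V) hg (x i)).trans ?_
  have := hg' (bx i)
  rw [hbx, hφ, hby] at this
  exact this

theorem linInd_of_form {u v : V} (h : f u v ≠ 0) : LinearIndependent F ![u, v] := by
  rw [LinearIndependent.pair_iff]
  intro s t hst
  have h1 : f u (s • u + t • v) = 0 := by rw [hst, sympForm_zero_right]
  have h2 : f (s • u + t • v) v = 0 := by rw [hst, sympForm_zero_left]
  rw [sympForm_add_right, sympForm_smul_right, sympForm_smul_right, sympForm_self, mul_zero, zero_add] at h1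
  rw [sympForm_add_left, sympForm_smul_left, sympForm_smul_left, sympForm_self, mul_zero, add_zero] at h2
  exact ⟨(mul_eq_zero.1 h2).resolve_right h, (mul_eq_zero.1 h1).resolve_right h⟩

theorem witt_pair {u v u' v' : V} (h : LinearIndependent F ![u, v]) (h' : LinearIndependent F ![u', v'])
    (hf : f u v = f u' v') : ∃ h : G, h • u = u' ∧ h • v = v' := by
  obtain ⟨g, hg⟩ := witt ![u, v] ![u', v'] h h' (by
    intro i j
    fin_cases i <;> fin_cases j
    · simp
    · simpa using hf
    · simp only [Fin.mk_one, Matrix.cons_val_one, Matrix.cons_val_zero, Fin.zero_eta]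
      rw [sympForm_swap v, sympForm_swap v', hf]
    · simp)
  exact ⟨g, by simpa using hg 0, by simpa using hg 1⟩

/-! ### The standard basis -/

/-- `e i` -/
def e (i : Fin m) : Fin m ⊕ Fin m → F := Pi.single (Sum.inr i) 1

/-- `e' i`, `f (e i) (e' i) = 1` -/
def e' (i : Fin m) : Fin m ⊕ Fin m → F := Pi.single (Sum.inl i) 1

theorem form_e_left (i : Fin m) (v : V) : f (e i) v = v (Sum.inl i) := sympForm_single_inr_left i v

theorem form_e'_left (i : Fin m) (v : V) : f (e' i) v = - v (Sum.inr i) := sympForm_single_inl_left i v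

theorem form_e_right (i : Fin m) (v : V) : f v (e i) = - v (Sum.inl i) := sympForm_single_inr_right i v

theorem form_e'_right (i : Fin m) (v : V) : f v (e' i) = v (Sum.inr i) := sympForm_single_inl_right i v

/-- the span of the first `j` hyperbolic planes -/
def W (m : ℕ) (F : Type*) [Field F] (j : ℕ) : Submodule F (Fin m ⊕ Fin m → F) where
  carrier := {v | ∀ i : Fin m, j ≤ i → v (Sum.inl i) = 0 ∧ v (Sum.inr i) = 0}
  zero_mem' := fun _ _ => ⟨rfl, rfl⟩
  add_mem' {u v} hu hv := fun i hi => by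
    rw [Pi.add_apply, Pi.add_apply, (hu i hi).1, (hu i hi).2, (hv i hi).1, (hv i hi).2, add_zero]
    exact ⟨rfl, rfl⟩
  smul_mem' c v hv := fun i hi => by
    rw [Pi.smul_apply, Pi.smul_apply, (hv i hi).1, (hv i hi).2, smul_zero]
    exact ⟨rfl, rfl⟩

theorem mem_W {j : ℕ} {v : V} : v ∈ W m F j ↔ ∀ i : Fin m, j ≤ i → v (Sum.inl i) = 0 ∧ v (Sum.inr i) = 0 := Iff.rfl

theorem W_top : (W m F m : Set V) = Set.univ := by
  ext v
  exact ⟨fun _ => Set.mem_univ v, fun _ i hi => absurd i.2 (not_lt.2 hi)⟩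

/-! ### One more conjugate adds a root group -/

section Root

variable {g : semiSim m F} {φ : F ≃+* F} {l : F} {k : ℕ} {J : Subgroup (Matrix.symplecticGroup (Fin m) F)}

theorem root_aux (hl : l ≠ 0) (hg : IsSemi g.1 φ l) (hR : Reach (conjHom m F g) k J) {v w v₀ : V}
    (h : Matrix.symplecticGroup (Fin m) F)
    {a b : F} (hb : b ≠ 0) (h1 : h • v₀ = a • v) (h2 : h • g.1 v₀ = b • w)
    (hv : ∀ c : F, transv v c ∈ J) : Reach (conjHom m F g) (k + 1) (J ⊔ T {w}) := by
  have h3 : cj h (T {v₀}) ≤ J := by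
    rw [cj_T, Set.image_singleton, T_le]
    intro x hx c
    rw [Set.mem_singleton_iff.1 hx, h1]
    exact transv_smul_mem hv a c
  have h4 : T {w} ≤ cj h (im (conjHom m F g) (T {v₀})) := by
    rw [im_T hl hg, cj_T, Set.image_singleton, Set.image_singleton, h2, T_le]
    intro x hx
    rw [Set.mem_singleton_iff.1 hx]
    exact transv_mem_of_smul hb fun c => transv_mem_T (Set.mem_singleton _) c
  exact (Reach.grow hR h3).sub (sup_le_sup_left h4 J)

/-- opposite root groups -/
theorem Reach.rootN (hl : l ≠ 0) (hg : IsSemi g.1 φ l) (hR : Reach (conjHom m F g) k J) {v₀ : V}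
    (h₀ : f v₀ (g.1 v₀) ≠ 0) {v w : V} (hvw : f v w ≠ 0) (hv : ∀ c : F, transv v c ∈ J) :
    Reach (conjHom m F g) (k + 1) (J ⊔ T {w}) := by
  have h1 : f (1 • v₀) (g.1 v₀) = f v ((f v₀ (g.1 v₀) * (f v w)⁻¹) • w) := by
    rw [one_smul, sympForm_smul_right]
    field_simp
  rw [one_smul] at h1
  obtain ⟨h, h2, h3⟩ := witt_pair (linInd_of_form h₀) (linInd_of_form (h1 ▸ h₀)) h1
  exact root_aux hl hg hR h (a := 1) (mul_ne_zero h₀ (inv_ne_zero hvw)) (by rw [h2, one_smul]) h3 hv

/-- commuting root groups -/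
theorem Reach.rootP (hl : l ≠ 0) (hg : IsSemi g.1 φ l) (hR : Reach (conjHom m F g) k J) {v₀ : V}
    (h₀ : f v₀ (g.1 v₀) = 0) (h₀' : LinearIndependent F ![v₀, g.1 v₀]) {v w : V} (hvw : f v w = 0)
    (hvw' : LinearIndependent F ![v, w]) (hv : ∀ c : F, transv v c ∈ J) :
    Reach (conjHom m F g) (k + 1) (J ⊔ T {w}) := by
  obtain ⟨h, h2, h3⟩ := witt_pair h₀' hvw' (by rw [h₀, hvw])
  exact root_aux hl hg hR h (a := 1) one_ne_zero (by rw [h2, one_smul]) (by rw [h3, one_smul]) hv

end Root

end Cfsg.Agent.H914.Gs
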