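import Mathlib
import Cfsg.Agent.H914.Gs.SpRow
import Cfsg.Agent.H914.Gs.SpGood
import Cfsg.Agent.H110.Gs.SpChain
import Cfsg.Agent.H500.Gs.SpThree
import Cfsg.Agent.H500.Gs.SpTwo
import Cfsg.Agent.H546.Gs.Exotic

/-!
# S4327, symplectic groups: the row (helper914)

`Semi F m` : semilinear elements; `R3 F m` : two conjugates, `r = 3`; `row_psp_of_pieces : Row (PSp m F)` from these two.
-/

set_option autoImplicit false
set_option maxHeartbeats 400000

namespace Cfsg.Agent.H914.Gs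

open Cfsg Cfsg.Agent.H915.Gs
open Cfsg.Agent.ClassicalGeometry.SympBasic Cfsg.Agent.ClassicalGeometry.SympSiegel
  Cfsg.Agent.ClassicalGeometry.SympAutSemi

/-- semilinear elements: eleven conjugates -/
def Semi (F : Type*) [Field F] (m : ℕ) : Prop :=
  ∀ {g : semiSim m F} {φ : F ≃+* F} {l : F}, l ≠ 0 → IsSemi g.1 φ l → φ ≠ RingEquiv.refl F →
    (∃ p : ℕ, p.Prime ∧ (Psi m F g) ^ p = 1) → Reach (conjHom m F g) 11 ⊤

/-- two conjugates, `r = 3` -/
def R3 (F : Type*) [Field F] (m : ℕ) : Prop :=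
  6 ≤ m → ∀ {g : semiSim m F} {l : F}, l ≠ 0 → IsSemi g.1 (RingEquiv.refl F) l →
    (orderOf (Psi m F g)).Prime → orderOf (Psi m F g) ≠ 3 → Ord (Psi m F g) 2 3

/-- the hypotheses, with the landed pieces filled in -/
theorem hyp_of {F : Type*} [Field F] [Finite F] {m : ℕ} (hm : 2 ≤ m) (h3 : 3 ≤ Nat.card F) (semi : Semi F m)
    (r3 : R3 F m) : Hyp F m where
  chain hl hg hns _ _ hj hjm h := Cfsg.Agent.H110.Gs.chain h3 hl hg hns hj hjm h
  good h4 _ _ hl hg _ h₀ := start_good (by omega) h4 hl hg h₀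
  three h _ _ hl hg hns := Cfsg.Agent.H500.Gs.Q3.start_three hm h hl hg hns
  three_transv h _ _ _ _ hv hc ha hg := Cfsg.Agent.H500.Gs.Q3.start_three_transv hm h hv hc ha hg
  semi := semi
  exo hm2 h2 x hx hxr := by
    subst hm2
    have hchar : CharP F 2 := CharTwo.of_one_ne_zero_of_two_eq_zero one_ne_zero h2
    refine Cfsg.Agent.H546.Gs.exotic ?_ x hx hxr
    by_contra hc
    have h3' : Nat.card F = 3 := by omega
    have := Fintype.ofFinite F
    have h4 : ((Nat.card F : ℕ) : F) = 0 := by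
      rw [Nat.card_eq_fintype_card]
      exact FiniteField.cast_card_eq_zero F
    rw [h3'] at h4
    have h5 : (1 : F) = 0 := by
      have h6 : ((3 : ℕ) : F) = 2 + 1 := by norm_num
      rw [h6, h2, zero_add] at h4
      exact h4
    exact one_ne_zero h5
  r3 := r3

/-- **the row of `PSp_{2m}(F)`** -/
theorem row_psp_of_pieces (F : Type) [Field F] [Fintype F] (m : ℕ) (hm : 2 ≤ m) (h : m = 2 → 3 ≤ Fintype.card F)
    (semi : Semi F m) (r3 : R3 F m) : Row (PSp m F) := by
  by_cases hF : 3 ≤ Fintype.card F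
  · exact row_psp_of F m hm hF (hyp_of hm (by rwa [Nat.card_eq_fintype_card]) semi r3)
  · have h1 : 1 < Fintype.card F := Fintype.one_lt_card
    have hm3 : 3 ≤ m := by
      by_contra hc
      exact hF (h (by omega))
    exact Cfsg.Agent.H500.Gs.row_psp_two F m hm3 (by omega)

end Cfsg.Agent.H914.Gs
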