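import Mathlib
import Cfsg.Agent.H914.Gs.SpMain
import Cfsg.Agent.H746.Gs.Semi

/-!
# S4327, symplectic groups: the row from the piece `R3` alone (helper914)

`Semi` is `H746.Gs.Semi.semilinear`.
-/

set_option autoImplicit false
set_option maxHeartbeats 400000

namespace Cfsg.Agent.H914.Gs

open Cfsg Cfsg.Agent.H915.Gs
open Cfsg.Agent.ClassicalGeometry.SympBasic Cfsg.Agent.ClassicalGeometry.SympSiegel
  Cfsg.Agent.ClassicalGeometry.SympAutSemi

theorem semi_holds {F : Type*} [Field F] [Finite F] {m : ℕ} (hm : 2 ≤ m) : Semi F m :=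
  fun hl hg hφ hp => Cfsg.Agent.H746.Gs.Semi.semilinear hm hl hg hφ hp

theorem row_psp_of_r3 (F : Type) [Field F] [Fintype F] (m : ℕ) (hm : 2 ≤ m) (h : m = 2 → 3 ≤ Fintype.card F)
    (r3 : R3 F m) : Row (PSp m F) :=
  row_psp_of_pieces F m hm h (semi_holds hm) r3

end Cfsg.Agent.H914.Gs
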