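import Mathlib
import Cfsg.Agent.H914.Gs.SpSemi
import Cfsg.Agent.H340.Gs.Sp

/-!
# S4327: the row of `PSp_{2m}(q)` (helper914)

`row_psp` : the symplectic row, `m ≥ 2`, `(m, q) ≠ (2, 2)`.
-/

set_option autoImplicit false
set_option maxHeartbeats 400000

namespace Cfsg.Agent.H914.Gs

open Cfsg Cfsg.Agent.H915.Gs
open Cfsg.Agent.ClassicalGeometry.SympBasic Cfsg.Agent.ClassicalGeometry.SympSiegel
  Cfsg.Agent.ClassicalGeometry.SympAutSemi

theorem r3_holds {F : Type*} [Field F] [Fintype F] {m : ℕ} : R3 F m := by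
  intro hm g l hl hg hx _
  have hs : IsSimpleGroup (PSp m F) := Cfsg.Agent.S0270.result m (by omega) (fun h => by omega)
  have hinj := conj_injective (psp_not_comm (F := F) (m := m) (by omega))
  have hns : ∃ v, LinearIndependent F ![v, g.1 v] := by
    by_contra hc
    rw [Psi_eq_one' g hg hc, orderOf_one] at hx
    exact Nat.not_prime_one hx
  exact Cfsg.Agent.H340.Gs.Sp.ord_three (by omega) hinj hl hg hns

/-- **the symplectic row** -/
theorem row_psp (F : Type) [Field F] [Fintype F] (m : ℕ) (hm : 2 ≤ m) (h : m = 2 → 3 ≤ Fintype.card F) :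
    Row (PSp m F) :=
  row_psp_of_r3 F m hm h r3_holds

end Cfsg.Agent.H914.Gs
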